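/-
helper95: GOUT-[GL-L168] (project GOUT = S3066, block GLUE): a nonsolvable group of order dividing 168
has order 168.
-/
import Mathlib
import Cfsg.Agent.S0144

set_option autoImplicit false
set_option linter.style.haveILetI false

namespace Cfsg.Agent.Lib.Helper76.GOut

/-- A group of order `7 * m`, `m ∈ {6, 12}`, has a normal Sylow `7`-subgroup and is solvable. -/
theorem H95.isSolvable_of_card_seven_mul {H : Type*} [Group H] [Finite H] (m : ℕ)
    (hm : m = 6 ∨ m = 12) (h : Nat.card H = 7 * m) : Group.IsSolvable H := by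
  classical
  have : Fact (Nat.Prime 7) := ⟨by norm_num⟩
  obtain ⟨P⟩ : Nonempty (Sylow 7 H) := inferInstance
  have hcardP : Nat.card P = 7 := by
    rw [Sylow.card_eq_multiplicity, h]
    rcases hm with rfl | rfl
    · have : Nat.factorization (7 * 6) 7 = 1 := by
        rw [show (7 * 6 : ℕ) = 42 from rfl]
        have : (42 : ℕ) = 7 ^ 1 * 6 := by norm_num
        rw [this, Nat.factorization_mul (by norm_num) (by norm_num)]
        simp [Nat.factorization_eq_zero_of_not_dvd (show ¬ 7 ∣ 6 by norm_num),
          Nat.Prime.factorization_self (show Nat.Prime 7 by norm_num)]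
      rw [this]; norm_num
    · have : Nat.factorization (7 * 12) 7 = 1 := by
        rw [show (7 * 12 : ℕ) = 84 from rfl]
        have : (84 : ℕ) = 7 ^ 1 * 12 := by norm_num
        rw [this, Nat.factorization_mul (by norm_num) (by norm_num)]
        simp [Nat.factorization_eq_zero_of_not_dvd (show ¬ 7 ∣ 12 by norm_num),
          Nat.Prime.factorization_self (show Nat.Prime 7 by norm_num)]
      rw [this]; norm_num
  have hidx : (P : Subgroup H).index = m := by
    have h1 := (P : Subgroup H).card_mul_index
    rw [hcardP, h] at h1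
    omega
  have h1 : Nat.card (Sylow 7 H) ≡ 1 [MOD 7] := card_sylow_modEq_one 7 H
  have h2 : Nat.card (Sylow 7 H) ∣ m := hidx ▸ P.card_dvd_index
  have h3 : Nat.card (Sylow 7 H) = 1 := by
    unfold Nat.ModEq at h1
    rcases hm with rfl | rfl
    · have hle : Nat.card (Sylow 7 H) ≤ 6 := Nat.le_of_dvd (by norm_num) h2
      have hpos : 0 < Nat.card (Sylow 7 H) := Nat.card_pos
      omega
    · have hle : Nat.card (Sylow 7 H) ≤ 12 := Nat.le_of_dvd (by norm_num) h2
      have hpos : 0 < Nat.card (Sylow 7 H) := Nat.card_pos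
      have h8 : Nat.card (Sylow 7 H) ≠ 8 := by
        intro h8; rw [h8] at h2; norm_num at h2
      omega
  have : Subsingleton (Sylow 7 H) := (Nat.card_eq_one_iff_unique.mp h3).1
  have hnorm : (P : Subgroup H).Normal := Sylow.normal_of_subsingleton P
  have : Group.IsSolvable (P : Subgroup H) :=
    S0144.result (G := (P : Subgroup H)) 7 2 1 0 (by norm_num) Nat.prime_two (by rw [hcardP]; norm_num)
  have hq : Nat.card (H ⧸ (P : Subgroup H)) = m := by
    rw [← Subgroup.index_eq_card]; exact hidx
  have : Group.IsSolvable (H ⧸ (P : Subgroup H)) := by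
    rcases hm with rfl | rfl
    · exact S0144.result 2 3 1 1 Nat.prime_two Nat.prime_three (by rw [hq]; norm_num)
    · exact S0144.result 2 3 2 1 Nat.prime_two Nat.prime_three (by rw [hq]; norm_num)
  exact Group.isSolvable_of_ker_le_range (P : Subgroup H).subtype (QuotientGroup.mk' (P : Subgroup H))
    (by simp)

theorem card_eq_168_of_not_isSolvable {H : Type*} [Group H] [Finite H] (hd : Nat.card H ∣ 168)
    (hns : ¬ Group.IsSolvable H) : Nat.card H = 168 := by
  classical
  by_contra hne
  apply hns
  have hmem : Nat.card H ∈ Nat.divisors 168 := Nat.mem_divisors.mpr ⟨hd, by norm_num⟩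
  have hdiv : Nat.divisors 168 = {1, 2, 3, 4, 6, 7, 8, 12, 14, 21, 24, 28, 42, 56, 84, 168} := by
    decide
  rw [hdiv] at hmem
  simp only [Finset.mem_insert, Finset.mem_singleton] at hmem
  rcases hmem with h | h | h | h | h | h | h | h | h | h | h | h | h | h | h | h
  · exact S0144.result 2 3 0 0 Nat.prime_two Nat.prime_three (by rw [h]; norm_num)
  · exact S0144.result 2 3 1 0 Nat.prime_two Nat.prime_three (by rw [h]; norm_num)
  · exact S0144.result 2 3 0 1 Nat.prime_two Nat.prime_three (by rw [h]; norm_num)
  · exact S0144.result 2 3 2 0 Nat.prime_two Nat.prime_three (by rw [h]; norm_num)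
  · exact S0144.result 2 3 1 1 Nat.prime_two Nat.prime_three (by rw [h]; norm_num)
  · exact S0144.result 2 7 0 1 Nat.prime_two (by norm_num) (by rw [h]; norm_num)
  · exact S0144.result 2 3 3 0 Nat.prime_two Nat.prime_three (by rw [h]; norm_num)
  · exact S0144.result 2 3 2 1 Nat.prime_two Nat.prime_three (by rw [h]; norm_num)
  · exact S0144.result 2 7 1 1 Nat.prime_two (by norm_num) (by rw [h]; norm_num)
  · exact S0144.result 3 7 1 1 Nat.prime_three (by norm_num) (by rw [h]; norm_num)
  · exact S0144.result 2 3 3 1 Nat.prime_two Nat.prime_three (by rw [h]; norm_num)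
  · exact S0144.result 2 7 2 1 Nat.prime_two (by norm_num) (by rw [h]; norm_num)
  · exact H95.isSolvable_of_card_seven_mul 6 (Or.inl rfl) (by rw [h])
  · exact S0144.result 2 7 3 1 Nat.prime_two (by norm_num) (by rw [h]; norm_num)
  · exact H95.isSolvable_of_card_seven_mul 12 (Or.inr rfl) (by rw [h])
  · exact absurd h hne

end Cfsg.Agent.Lib.Helper76.GOut
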