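/-
helper95: GOUT-[GL-AUT8] (project GOUT = S3066, block GLUE): |MulAut Q| divides 168 (resp. 6) for
Q of exponent 2 and order dividing 8 (resp. 4).  Own linearisation (does not need GL-LINEQ).
-/
import Mathlib
import Cfsg.Agent.Lib.Helper12.HuppertGL26

set_option autoImplicit false
set_option linter.style.haveILetI false

namespace Cfsg.Agent.Lib.Helper76.GOut

open Module

/-- A finite group of exponent `2` has order `2 ^ n` and its automorphism group has the order of
`GL_n(2)`. -/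
theorem H95.card_mulAut_eq_card_GL (Q : Type*) [Group Q] [Finite Q] (h2 : ∀ x : Q, x ^ 2 = 1) :
    ∃ n : ℕ, Nat.card Q = 2 ^ n ∧ Nat.card (MulAut Q) = Nat.card (GL (Fin n) (ZMod 2)) := by
  classical
  have hinv : ∀ a : Q, a⁻¹ = a := fun a => by
    rw [inv_eq_iff_mul_eq_one, ← pow_two]; exact h2 a
  have hcomm : ∀ a b : Q, a * b = b * a := by
    intro a b
    calc a * b = (a * b)⁻¹ := (hinv _).symm
      _ = b⁻¹ * a⁻¹ := mul_inv_rev a b
      _ = b * a := by rw [hinv a, hinv b]
  letI : CommGroup Q := { ‹Group Q› with mul_comm := hcomm }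
  have h2' : ∀ x : Additive Q, 2 • x = 0 := fun x => by
    show Additive.ofMul (x.toMul ^ 2) = 0
    rw [h2]; rfl
  letI : Module (ZMod 2) (Additive Q) := AddCommGroup.zmodModule h2'
  haveI : Finite (Additive Q) := ‹Finite Q›
  haveI : Module.Finite (ZMod 2) (Additive Q) := Module.Finite.of_finite
  refine ⟨finrank (ZMod 2) (Additive Q), ?_, ?_⟩
  · have h := Module.natCard_eq_pow_finrank (K := ZMod 2) (V := Additive Q)
    rw [Nat.card_zmod] at h
    exact h
  · rw [← Cfsg.Agent.Lib.Helper12.Huppert.card_linearEquiv_eq_card_GL (K := ZMod 2)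
      (W := Additive Q) _ rfl]
    refine Nat.card_congr ?_
    refine (MulEquiv.toAdditive (G := Q) (H := Q)).trans ?_
    exact
      { toFun := fun e => e.toLinearEquiv (fun c x => ZMod.map_smul e c x)
        invFun := fun e => e.toAddEquiv
        left_inv := fun e => by ext; rfl
        right_inv := fun e => by ext; rfl }

theorem H95.card_GL_zero : Nat.card (GL (Fin 0) (ZMod 2)) = 1 := by
  rw [Matrix.card_GL_field]; simp
theorem H95.card_GL_one : Nat.card (GL (Fin 1) (ZMod 2)) = 1 := by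
  rw [Matrix.card_GL_field, ZMod.card]; simp
theorem H95.card_GL_two : Nat.card (GL (Fin 2) (ZMod 2)) = 6 := by
  rw [Matrix.card_GL_field, ZMod.card]; simp [Fin.prod_univ_succ]
theorem H95.card_GL_three : Nat.card (GL (Fin 3) (ZMod 2)) = 168 := by
  rw [Matrix.card_GL_field, ZMod.card]; simp [Fin.prod_univ_succ]

theorem card_mulAut_dvd_168 (Q : Type*) [Group Q] [Finite Q] (h2 : ∀ x : Q, x ^ 2 = 1)
    (h8 : Nat.card Q ∣ 8) : Nat.card (MulAut Q) ∣ 168 := by
  obtain ⟨n, hn, hcard⟩ := H95.card_mulAut_eq_card_GL Q h2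
  rw [hcard]
  have hn3 : n ≤ 3 := by
    rw [hn, show (8 : ℕ) = 2 ^ 3 from rfl] at h8
    exact (Nat.pow_dvd_pow_iff_le_right (by norm_num)).mp h8
  interval_cases n
  · rw [H95.card_GL_zero]; norm_num
  · rw [H95.card_GL_one]; norm_num
  · rw [H95.card_GL_two]; norm_num
  · rw [H95.card_GL_three]

theorem card_mulAut_dvd_six (Q : Type*) [Group Q] [Finite Q] (h2 : ∀ x : Q, x ^ 2 = 1)
    (h4 : Nat.card Q ∣ 4) : Nat.card (MulAut Q) ∣ 6 := by
  obtain ⟨n, hn, hcard⟩ := H95.card_mulAut_eq_card_GL Q h2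
  rw [hcard]
  have hn2 : n ≤ 2 := by
    rw [hn, show (4 : ℕ) = 2 ^ 2 from rfl] at h4
    exact (Nat.pow_dvd_pow_iff_le_right (by norm_num)).mp h4
  interval_cases n
  · rw [H95.card_GL_zero]; norm_num
  · rw [H95.card_GL_one]; norm_num
  · rw [H95.card_GL_two]

end Cfsg.Agent.Lib.Helper76.GOut
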