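/-
helper95: GOUT-[GL-PHI] (project GOUT = S3066, block GLUE): phiKer S is a 2-group modulo fixAut S.
Burnside for coprime (not just prime) order from helper53; GL-TWOQ from helper87.
-/
import Mathlib
import Cfsg.Agent.Lib.Helper53.FrattiniAut
import Cfsg.Agent.Lib.Helper87.GOut.GLTwoQ

set_option autoImplicit false
set_option linter.style.haveILetI false

namespace Cfsg.Agent.Lib.Helper76.GOut

open Cfsg

/-- The automorphisms of `P` acting trivially on `P/Φ(P)` form a submonoid. -/
def H95.trivModFrattini (P : Type*) [Group P] : Submonoid (MulAut P) where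
  carrier := {α | ∀ x : P, x⁻¹ * α x ∈ frattini P}
  one_mem' := fun x => by simp
  mul_mem' := by
    intro α β hα hβ x
    have : x⁻¹ * (α * β) x = (x⁻¹ * β x) * ((β x)⁻¹ * α (β x)) := by
      rw [MulAut.mul_apply]; group
    rw [this]
    exact mul_mem (hβ x) (hα (β x))

/-- Burnside: an automorphism of a finite `p`-group of order prime to `p`, trivial on the Frattini
quotient, is trivial (general coprime order, from the prime-order case of helper53). -/
theorem H95.aut_eq_one_of_trivial_mod_frattini_of_coprime {P : Type*} [Group P] [Finite P] {p : ℕ}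
    [Fact p.Prime] (hP : IsPGroup p P) (α : MulAut P) (n : ℕ) (hn : Nat.Coprime n p)
    (hαn : α ^ n = 1) (h : ∀ x, x⁻¹ * α x ∈ frattini P) : α = 1 := by
  classical
  by_contra hne
  have hm1 : orderOf α ≠ 1 := fun h1 => hne (orderOf_eq_one_iff.mp h1)
  have hmn : orderOf α ∣ n := orderOf_dvd_of_pow_eq_one hαn
  obtain ⟨q, hq, hqm⟩ := Nat.exists_prime_and_dvd hm1
  haveI : Fact q.Prime := ⟨hq⟩
  have hqp : q ≠ p := by
    rintro rfl
    have : q ∣ Nat.gcd n q := Nat.dvd_gcd (hqm.trans hmn) dvd_rfl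
    rw [hn] at this
    exact hq.one_lt.ne' (Nat.dvd_one.mp this)
  have hpos : 0 < orderOf α := by
    rcases Nat.eq_zero_or_pos (orderOf α) with h0 | h0
    · rw [h0] at hqm
      have hn0 : n = 0 := by rw [h0] at hmn; exact Nat.eq_zero_of_zero_dvd hmn
      rw [hn0, Nat.coprime_zero_left] at hn
      exact absurd hn (Fact.out : p.Prime).one_lt.ne'
    · exact h0
  set β := α ^ (orderOf α / q) with hβ
  have hβq : β ^ q = 1 := by
    rw [hβ, ← pow_mul, Nat.div_mul_cancel hqm, pow_orderOf_eq_one]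
  have hβt : ∀ x, x⁻¹ * β x ∈ frattini P :=
    pow_mem (show α ∈ H95.trivModFrattini P from h) _
  have hβ1 : β = 1 :=
    Cfsg.Agent.Lib.Helper53.aut_eq_one_of_trivial_mod_frattini hP β q hqp hβq hβt
  have hdvd : orderOf α ∣ orderOf α / q := orderOf_dvd_of_pow_eq_one hβ1
  have hlt : orderOf α / q < orderOf α := Nat.div_lt_self hpos hq.one_lt
  have hqpos : 0 < orderOf α / q := Nat.div_pos (Nat.le_of_dvd hpos hqm) hq.pos
  exact absurd (Nat.le_of_dvd hqpos hdvd) (not_le.mpr hlt)

variable {G : Type*} [Group G] [Finite G]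

/-- an odd-order automorphism in `phiKer S` fixes `S` pointwise -/
theorem H95.mem_fixAut_of_mem_phiKer_of_odd (S : Sylow 2 G) (φ : MulAut G)
    (hφ : φ ∈ phiKer (S : Subgroup G)) (hodd : Odd (orderOf φ)) :
    φ ∈ fixAut (S : Subgroup G) := by
  classical
  haveI : Fact (Nat.Prime 2) := ⟨Nat.prime_two⟩
  set φ' : ↥(stabAut (S : Subgroup G)) := ⟨φ, hφ.1⟩ with hφ'
  set α : MulAut ↥(S : Subgroup G) := resAut (S : Subgroup G) φ' with hα
  have hpow : α ^ orderOf φ = 1 := by
    rw [hα, ← map_pow]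
    have : φ' ^ orderOf φ = 1 := by
      apply Subtype.ext
      rw [Subgroup.coe_pow]
      exact pow_orderOf_eq_one φ
    rw [this, map_one]
  have htriv : ∀ x : ↥(S : Subgroup G), x⁻¹ * α x ∈ frattini ↥(S : Subgroup G) := by
    intro x
    obtain ⟨y, hy, hyx⟩ := hφ.2 x.1 x.2
    have : x⁻¹ * α x = y := by
      apply Subtype.ext
      exact hyx.symm
    rw [this]; exact hy
  have hcop : Nat.Coprime (orderOf φ) 2 := Nat.Coprime.symm (Nat.coprime_two_left.mpr hodd)
  have h1 : α = 1 :=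
    H95.aut_eq_one_of_trivial_mod_frattini_of_coprime S.isPGroup' α (orderOf φ) hcop hpow htriv
  intro s hs
  have h2 : α ⟨s, hs⟩ = ⟨s, hs⟩ := by rw [h1]; rfl
  have h3 := congrArg Subtype.val h2
  exact h3

theorem solvMod_phiKer (S : Sylow 2 G) :
    SolvMod (phiKer (S : Subgroup G)) (fixAut (S : Subgroup G)) := by
  haveI : Finite (MulAut G) :=
    Finite.of_injective (fun φ : MulAut G => (φ : G → G)) DFunLike.coe_injective
  refine solvMod_of_odd_mem _ _ ?_ (fun φ hφ hodd => H95.mem_fixAut_of_mem_phiKer_of_odd S φ hφ hodd)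
  intro x hx k hk s hs
  have hx' : x⁻¹ ∈ stabAut (S : Subgroup G) := (stabAut (S : Subgroup G)).inv_mem hx.1
  have hs' : x⁻¹ s ∈ (S : Subgroup G) := (hx' s).2 hs
  show x (k (x⁻¹ s)) = s
  rw [hk _ hs', MulAut.apply_inv_self]

end Cfsg.Agent.Lib.Helper76.GOut
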